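import Cfsg.Agent.SB.Exc.Defs

/-!
# S5765, exceptional groups: the order of the group of fixed points of a Frobenius map (helper90)
-/

set_option autoImplicit false
set_option linter.unusedSectionVars false

namespace Cfsg.Agent.SB.Exc.Crit

open CoxeterSystem Cfsg Cfsg.Lie Cfsg.Lie.ChevalleyDatum
open Cfsg.Agent.ChevalleyStructure Cfsg.Agent.ChevalleyStructure.Elts Cfsg.Agent.ChevalleyStructure.CoxeterGeom
  Cfsg.Agent.ChevalleyStructure.CoxeterGeomTypes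
open Cfsg.Agent.Tits.Roots Cfsg.Agent.Tits.Core Cfsg.Agent.Nodes Cfsg.Agent.Nodes.Reps Cfsg.Agent.Nodes.BNOf
  Cfsg.Agent.Nodes.RGDChev Cfsg.Agent.Nodes.Bruhat
open Cfsg.Agent.KFacts.RgdField Cfsg.Agent.KFacts.RgdChevCoord
open Cfsg.Agent.BpExc Cfsg.Agent.BpExc.TorCent Cfsg.Agent.BpExc.TorChev Cfsg.Agent.BpExc.Tow
  Cfsg.Agent.BpExc.TowChev Cfsg.Agent.BpExc.Fr Cfsg.Agent.BpExc.LangFr
open Cfsg.Agent.H469.Exc Cfsg.Agent.H316.U6 Cfsg.Agent.H129.TorusChar Cfsg.Agent.DS.Ex Cfsg.Agent.H786.FC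

/-- a split power with prescribed ratio -/
theorem split_of_frob {p : ℕ} [Fact p.Prime] {k : Type} [Field k] [CharP k p] [IsAlgClosed k] {Y : Type} [Group Y]
    {N : Type} [Fintype N] [DecidableEq N] {ρ : Y →* GL N k} {σ : MulAut Y} {H : Subgroup Y} (D : DL.Datum p ρ σ H)
    {d e : ℕ} (hd : 0 < d) (he : 0 < e) (h : ∀ y, ρ ((σ ^ d) y) = LangThm.frob p e (ρ y)) :
    ∃ m, 0 < m ∧ D.Split (d * m) (e * m) := by
  obtain ⟨e₁, he₁, h₁⟩ := D.exists_level_x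
  obtain ⟨e₂, he₂, h₂⟩ := D.exists_level_τ
  have h0 := D.e0_pos
  have hm : 0 < D.e0 * e₁ * e₂ := by positivity
  refine ⟨_, hm, ?_⟩
  have he' := Nat.mul_pos he hm
  have hd' : D.e0 * e₁ * e₂ ∣ e * (D.e0 * e₁ * e₂) := dvd_mul_left _ _
  have h3 : D.e0 ∣ e * (D.e0 * e₁ * e₂) := ((dvd_mul_right _ _).trans (dvd_mul_right _ _)).trans hd'
  have h4 := DL.Amb.pow_frob h (D.e0 * e₁ * e₂)
  refine ⟨Nat.mul_pos hd hm, he', h3, h4, fun a ha u => D.amb.inj ?_, fun c => D.amb.inj ?_, fun i => D.amb.inj ?_⟩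
  · rw [h4, h₁ _ (((dvd_mul_left _ _).trans (dvd_mul_right _ _)).trans hd') a ha]
  · rw [h4, h₂ _ ((dvd_mul_left _ _).trans hd')]
  · rw [h4]
    exact D.n_mem_lev he' h3 i

variable {D : ChevalleyDatum} {l : ℕ} {M : CoxeterMatrix (Fin l)} (hp : IsType D l M) {p : ℕ} [Fact p.Prime]

/-- every datum for a map of Frobenius type with exponent `n` has a split power of ratio `n` -/
theorem split_of_isFrob {n : ℕ} (hn : 0 < n) {σ : MulAut (YY D p)} (hσ : IsFrob p n σ) {H : Subgroup (YY D p)}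
    (E : DL.Datum p (D.group (KK p)).subtype σ H) : ∃ d, E.Split d (n * d) := by
  obtain ⟨d, hd, h⟩ := Sig.exists_pow_frob (locFin p) hσ
  obtain ⟨m, -, h1⟩ := split_of_frob E hd (Nat.mul_pos hd hn) h
  exact ⟨d * m, by rwa [← mul_assoc, mul_comm n d]⟩

include hp in
theorem typ_num (hD : Typ D) : D.nroots = 2 * nP l ∧ 0 < dM l ∧ (D = chevE6 → dM l = 3 ∧ D ≠ chevE7 ∧ D ≠ chevF4) := by
  have h := rank_eq_of_inList hp.inList
  have h1 := hp.rank_eq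
  refine ⟨?_, by unfold dM; split_ifs <;> norm_num, fun e => ?_⟩
  · rcases hD with rfl | rfl | rfl | rfl
    · obtain rfl : l = 4 := h1 ▸ h.2.2.2.1 rfl
      rfl
    · obtain rfl : l = 6 := h1 ▸ h.2.2.2.2.1 rfl
      rfl
    · obtain rfl : l = 7 := h1 ▸ h.2.2.2.2.2.1 rfl
      rfl
    · obtain rfl : l = 8 := h1 ▸ h.2.2.2.2.2.2 rfl
      rfl
  · have h2 := h.2.2.2.2.1 e
    obtain rfl : l = 6 := h1 ▸ h2
    refine ⟨rfl, fun e' => ?_, fun e' => ?_⟩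
    · have := h.2.2.2.2.2.1 e'
      omega
    · have := h.2.2.2.1 e'
      omega

theorem ncard_roots : {a | IsRoot M.toCoxeterSystem hp.isCartan a}.ncard ≤ D.nroots := by
  have h1 : {a | IsRoot M.toCoxeterSystem hp.isCartan a} = vec D l '' (Finset.range D.nroots : Set ℕ) := by
    ext a
    rw [Set.mem_ofPred_eq, isRoot_iff hp]
    simp
  rw [h1]
  refine (Set.ncard_image_le (Finset.finite_toSet _)).trans ?_
  rw [Set.ncard_coe_finset, Finset.card_range]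

/-- the order of the fixed group, standard frame -/
theorem card_fix_fr (hC : BoxCard) {n : ℕ} (hn : 0 < n) {σ : MulAut (YY D p)} (hσ : IsFrob p n σ)
    {g : (Fin l → ℤ) ≃+ (Fin l → ℤ)} (Φ : Fr M.toCoxeterSystem hp.isCartan (TT D (KK p)) (XX D l (KK p)) σ g) :
    Nat.card (DL.fix σ) ≤ (p ^ n) ^ D.nroots * (p ^ n + 1) ^ l := by
  obtain ⟨d, hd⟩ := split_of_isFrob hn hσ (DL.Ex.chevFr hp (locFin p) hn hσ Φ)
  have h1 := (hC p (KK p) _ _ _ _ _ _ d n hd).2.2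
  have h2 : DL.GF σ ⊤ = DL.fix σ := top_inf_eq _
  have h3 : Fintype.card (DL.Ex.chevFr hp (locFin p) hn hσ Φ).R = l := Fintype.card_fin l
  rw [h2, h3] at h1
  refine h1.trans (Nat.mul_le_mul_right _ (Nat.pow_le_pow_right (pow_pos (Fact.out : p.Prime).pos n) ?_))
  exact ncard_roots hp

/-- **The order of the fixed group.** -/
theorem card_fix (hC : BoxCard) {n : ℕ} (hn : 0 < n) {φ : MulAut (YY D p)} (hφ : IsFrob p n φ) {y : YY D p}
    {g : (Fin l → ℤ) ≃+ (Fin l → ℤ)}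
    (Φ : Fr M.toCoxeterSystem hp.isCartan (TT D (KK p)) (XX D l (KK p)) (MulAut.conj y * φ) g) :
    Finite (DL.fix φ) ∧ Nat.card (DL.fix φ) ≤ (p ^ n) ^ D.nroots * (p ^ n + 1) ^ l := by
  refine ⟨(DL.Ex.amb_of_isFrob (locFin p) hn hφ).finite_fix, ?_⟩
  have := (DL.Ex.amb_of_isFrob (locFin p) hn (hφ.conj_mul y)).finite_fix
  refine le_trans ?_ (card_fix_fr hp hC hn (hφ.conj_mul y) Φ)
  obtain ⟨z, hz⟩ := lang_all hp M.toCoxeterSystem hn (hφ.conj_mul y) Φ y⁻¹ y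
  rw [← mul_assoc, ← map_mul, inv_mul_cancel, map_one, one_mul] at hz
  refine Nat.card_le_card_of_injective (fun x : DL.fix φ => (⟨z⁻¹ * x * z, ?_⟩ : DL.fix (MulAut.conj y * φ))) ?_
  · have h1 : φ x = x := x.2
    show y * φ (z⁻¹ * x * z) * y⁻¹ = z⁻¹ * x * z
    rw [map_mul, map_mul, map_inv, h1, hz]
    group
  · intro x x' h
    have h1 : z⁻¹ * x * z = z⁻¹ * x' * z := congrArg Subtype.val h
    exact Subtype.ext (mul_left_cancel (mul_right_cancel h1))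

end Cfsg.Agent.SB.Exc.Crit
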