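import Cfsg.Agent.SB.Exc.Crit.Grp
import Cfsg.Agent.SB.Exc.Crit.Fix
import Cfsg.Agent.SB.Exc.NT.Ind

/-!
# S5765, exceptional groups: the counting criterion `BoxCrit` (helper90)
-/

set_option autoImplicit false
set_option linter.unusedSectionVars false

namespace Cfsg.Agent.SB.Exc.Crit

open CoxeterSystem Cfsg Cfsg.Lie Cfsg.Lie.ChevalleyDatum
open Cfsg.Agent.ChevalleyStructure Cfsg.Agent.Nodes.RGDChev Cfsg.Agent.KFacts.RgdChevCoord
open Cfsg.Agent.H469.Exc Cfsg.Agent.H316.U6 Cfsg.Agent.DS.Ex Cfsg.Agent.H786.FC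
open Cfsg.Agent.SB.Exc.NT
open Subgroup (centralizer mem_centralizer_singleton_iff zpowers)

variable {D : ChevalleyDatum} {l : ℕ} {M : CoxeterMatrix (Fin l)} {hp : IsType D l M} {p : ℕ} [Fact p.Prime]
  {q : ℕ} {G : Type} [Group G] {T S : Subgroup G} {F : XF hp p q T}

/-! ### lifts and degrees -/

theorem ind_of_conj {φ : F.L.Γ} {y : YY D p} (h : (φ : MulAut (YY D p)) = MulAut.conj y) : F.Ind y (F.L.π φ) :=
  fun x x' e => by
    have h1 := F.L.act φ x x' e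
    rwa [h] at h1

variable (F) in
/-- the Frobenius map as a lift -/
def sg : F.L.Γ := ⟨F.L.σ, F.L.mem_σ⟩

theorem pi_sg (hT : AS T) : F.L.π (sg F) = 1 := by
  have h1 : F.L.π (sg F) ∈ centralizer (T : Set G) := Subgroup.mem_centralizer_iff.2 fun x hx => by
    have h2 := F.L.act (sg F) ⟨x, hx⟩ ⟨_, hT.normal.conj_mem _ hx (F.L.π (sg F))⟩ rfl
    have h3 : x = F.L.π (sg F) * x * (F.L.π (sg F))⁻¹ := congrArg Subtype.val (F.L.inj ((F.L.fix _).symm.trans h2))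
    exact (mul_inv_eq_iff_eq_mul.1 h3.symm).symm
  rwa [hT.cent, Subgroup.mem_bot] at h1

theorem sg_comm (φ : F.L.Γ) : Commute φ (sg F) := Subtype.ext (F.L.comm_σ φ φ.2)

variable (F) in
/-- the degree as a homomorphism -/
noncomputable def dH : F.L.Γ →* Multiplicative ℤ :=
  MonoidHom.mk' (fun φ => Multiplicative.ofAdd (F.deg φ)) fun φ ψ => congrArg Multiplicative.ofAdd (F.deg_mul φ ψ)

theorem deg_one : F.deg 1 = 0 := congrArg Multiplicative.toAdd (map_one (dH F))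

theorem deg_zpow (φ : F.L.Γ) (k : ℤ) : F.deg (φ ^ k) = k * F.deg φ := by
  have h := congrArg Multiplicative.toAdd (map_zpow (dH F) φ k)
  rw [toAdd_zpow, smul_eq_mul] at h
  exact h

theorem deg_inv (φ : F.L.Γ) : F.deg φ⁻¹ = -F.deg φ := by
  rw [← zpow_neg_one, deg_zpow, neg_one_mul]

theorem deg_sg : F.deg (sg F) = F.κ * F.m.e := F.deg_σ

theorem ker_sg {φ : F.L.Γ} (h : F.L.π φ = 1) : ∃ k : ℤ, φ = sg F ^ k := by
  obtain ⟨k, hk⟩ := F.ker φ h
  exact ⟨k, Subtype.ext hk.symm⟩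

variable (F) in
/-- the elements with a lift of degree zero -/
noncomputable def G0 : Subgroup G := (dH F).ker.map F.L.π

theorem mem_G0 {c : G} : c ∈ G0 F ↔ ∃ φ : F.L.Γ, F.deg φ = 0 ∧ F.L.π φ = c := Iff.rfl

theorem G0_normal : (G0 F).Normal := Subgroup.Normal.map inferInstance _ F.L.surj

theorem kappa_pos : 0 < F.κ := by
  rcases F.hκ with h | h
  · omega
  · omega

theorem index_G0 (hT : AS T) : (G0 F).index ≤ F.κ * F.m.e ∧ (G0 F).index ≠ 0 := by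
  have h0 : F.κ * F.m.e ≠ 0 := (Nat.mul_pos kappa_pos F.m.he).ne'
  let Z : Subgroup (Multiplicative ℤ) := zpowers (Multiplicative.ofAdd ((F.κ * F.m.e : ℕ) : ℤ))
  have hZ : Z.index = F.κ * F.m.e := by
    have h1 := Int.index_zmultiples ((F.κ * F.m.e : ℕ) : ℤ)
    rw [Int.natAbs_natCast] at h1
    exact h1
  have h1 : (Z.comap (dH F)).map F.L.π ≤ G0 F := by
    rintro _ ⟨φ, ⟨k, hk⟩, rfl⟩
    have h2 : k * (F.κ * F.m.e : ℤ) = F.deg φ := by
      have h3 := congrArg Multiplicative.toAdd hk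
      rw [toAdd_zpow, smul_eq_mul, toAdd_ofAdd, Nat.cast_mul] at h3
      exact h3
    refine mem_G0.2 ⟨φ * sg F ^ (-k), ?_, ?_⟩
    · rw [F.deg_mul, deg_zpow, deg_sg, ← h2]
      ring
    · rw [map_mul, map_zpow, pi_sg hT, one_zpow, mul_one]
  have h2 : (G0 F).index ∣ (Z.comap (dH F)).index :=
    (Subgroup.index_dvd_of_le h1).trans (Subgroup.index_map_dvd _ F.L.surj)
  have h3 : (Z.comap (dH F)).index ∣ F.κ * F.m.e := by
    rw [Subgroup.index_comap, ← hZ]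
    exact Subgroup.relIndex_dvd_index_of_normal _ _
  have h4 := h2.trans h3
  exact ⟨Nat.le_of_dvd (Nat.pos_of_ne_zero h0) h4, ne_zero_of_dvd_ne_zero h0 h4⟩

theorem G0_two (hT : T.Normal) : ∀ a ∈ G0 F, ∀ b ∈ G0 F, a ∈ F.ID hT ∨ b ∈ F.ID hT ∨ a * b ∈ F.ID hT := by
  rintro _ ⟨φ, h1, rfl⟩ _ ⟨ψ, h2, rfl⟩
  rcases F.alg₂ φ ψ h1 h2 with ⟨y, h⟩ | ⟨y, h⟩ | ⟨y, h⟩
  · exact Or.inl ⟨y, ind_of_conj h⟩
  · exact Or.inr (Or.inl ⟨y, ind_of_conj h⟩)
  · refine Or.inr (Or.inr ⟨y, ?_⟩)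
    rw [← map_mul]
    exact ind_of_conj h

theorem G0_E6 (hT : T.Normal) {c : G} (h : c ∈ G0 F) (h' : c ∉ F.ID hT) : D = chevE6 := by
  obtain ⟨φ, h1, rfl⟩ := h
  rcases F.alg φ h1 with ⟨y, h⟩ | h
  · exact absurd ⟨y, ind_of_conj h⟩ h'
  · exact h.1

theorem comm_mem_ID (hT : T.Normal) (a b : G) : a * b * a⁻¹ * b⁻¹ ∈ F.ID hT := by
  obtain ⟨φ, rfl⟩ := F.L.surj a
  obtain ⟨ψ, rfl⟩ := F.L.surj b
  obtain ⟨y, h⟩ := F.L.der φ φ.2 ψ ψ.2
  refine ⟨y, ?_⟩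
  rw [← map_inv, ← map_inv, ← map_mul, ← map_mul, ← map_mul]
  exact ind_of_conj h

theorem two_mul_le : 2 * F.m.e ≤ q := by
  refine le_trans ?_ ((Nat.pow_le_pow_left (Fact.out : p.Prime).two_le _).trans F.m.hq.le)
  obtain ⟨n, hn⟩ := Nat.exists_eq_add_of_lt F.m.he
  rw [hn, zero_add, pow_succ']
  exact Nat.mul_le_mul_left _ Nat.lt_two_pow_self

variable [Finite G]

/-- the index of the inner-diagonal group -/
theorem index_ID (hD : Typ D) (hT : AS T) : (F.ID hT.normal).index ≤ q := by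
  refine le_trans ?_ (two_mul_le (F := F))
  have h1 := Subgroup.relIndex_mul_index (inf_le_right : F.ID hT.normal ⊓ G0 F ≤ G0 F)
  rw [Subgroup.inf_relIndex_right] at h1
  refine (Subgroup.index_antitone (inf_le_left : F.ID hT.normal ⊓ G0 F ≤ _)).trans ?_
  rw [← h1]
  have h2 := (index_G0 (F := F) hT).1
  rcases F.hκ with h | ⟨h, -, h'⟩
  · rw [h, one_mul] at h2
    exact Nat.mul_le_mul (relIndex_le_two (G0_two hT.normal)) h2
  · have h3 : G0 F ≤ F.ID hT.normal := fun c hc => by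
      by_contra h4
      exact ((typ_num hp hD).2.2 (G0_E6 hT.normal hc h4)).2.2 h
    rw [Subgroup.relIndex_eq_one.2 h3, one_mul, ← h']
    exact h2

theorem card_le_q (hD : Typ D) (hT : AS T) (X : Subgroup G) : Nat.card X ≤ q * Nat.card ↥(X ⊓ F.ID hT.normal) := by
  rw [card_le_inf_mul (F.ID hT.normal) X, mul_comm]
  refine Nat.mul_le_mul_right _ (le_trans ?_ (index_ID (F := F) hD hT))
  rw [← Subgroup.relIndex_top_right]
  exact Subgroup.relIndex_le_of_le_right le_top Subgroup.index_ne_zero_of_finite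

/-! ### the four kinds of elements -/

theorem orderOf_ind (hT : AS T) {y : YY D p} {c : G} (h : F.Ind y c) : orderOf y = orderOf c := by
  rw [← theta_eq hT.normal h, orderOf_injective _ (theta_inj hT), ← Subgroup.orderOf_coe]

/-- inner-diagonal elements of order prime to `dd` and `p`-elements lie in `T` -/
theorem mem_T_of_p (hT : AS T) {c : G} (hc : c ∈ F.ID hT.normal) {k : ℕ} (h : c ^ p ^ k = 1) : c ∈ T := by
  obtain ⟨y, hy⟩ := hc
  refine mem_T_of_ind hT hy (F.L.pel y (ind_fix hy) ⟨k, ?_⟩)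
  rw [← orderOf_dvd_iff_pow_eq_one, orderOf_ind hT hy]
  exact orderOf_dvd_of_pow_eq_one h

theorem eq_one_of_p (C : Ctx p T S) {c : G} (hc : c ∈ fit S) (hI : c ∈ F.ID C.as.normal) {k : ℕ}
    (h : c ^ p ^ k = 1) : c = 1 := by
  obtain ⟨Q, h1, h2, h3, h4⟩ := exists_core (fit_nilpotent S) p Fact.out
  have h5 := C.npar (Q ⊓ T) (inf_le_inf_right _ (h1.trans (fit_le S))) (h2.to_le inf_le_left)
    fun s hs x hx => ⟨h4 s (fun v hv => fit_conj hs hv) x hx.1, C.as.normal.conj_mem _ hx.2 s⟩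
  have h6 : c ∈ Q ⊓ T := ⟨(h3 c hc).1 ⟨k, h⟩, mem_T_of_p C.as hI h⟩
  rwa [h5, Subgroup.mem_bot] at h6

theorem cent_le_ind {y : YY D p} {c : G} (h : F.Ind y c) :
    Nat.card ↥(T ⊓ centralizer {c}) ≤ Nat.card ↥(DL.fix F.L.σ ⊓ centralizer {y}) := by
  have := finite_fix F
  have : Finite ↥(DL.fix F.L.σ ⊓ centralizer {y}) :=
    Finite.of_injective _ (Subgroup.inclusion_injective inf_le_left)
  refine Nat.card_le_card_of_injective (fun x : ↥(T ⊓ centralizer {c}) =>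
    (⟨F.L.ι ⟨x, x.2.1⟩, F.L.fix _, ?_⟩ : ↥(DL.fix F.L.σ ⊓ centralizer {y}))) fun x x' e => ?_
  · exact mem_centralizer_singleton_iff.2 (ind_comm h (mem_centralizer_singleton_iff.1 x.2.2).symm).symm
  · exact Subtype.ext (congrArg (fun z : T => (z : G)) (F.L.inj (congrArg Subtype.val e)))

/-- outer elements of order `p` are central in `S` -/
theorem central_of_p (C : Ctx p T S) (F : XF hp p q T) {c : G} (hc : c ∈ fit S) (h : c ^ p = 1) :
    ∀ s ∈ S, s * c * s⁻¹ = c := by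
  intro s hs
  obtain ⟨Q, h1, h2, h3, h4⟩ := exists_core (fit_nilpotent S) p Fact.out
  have h5 : c ∈ Q := (h3 c hc).1 ⟨1, by rwa [pow_one]⟩
  have h6 : s * c * s⁻¹ * c⁻¹ ∈ Q := mul_mem (h4 s (fun v hv => fit_conj hs hv) c h5) (inv_mem h5)
  obtain ⟨k, hk⟩ := (h3 _ (h1 h6)).2 h6
  exact mul_inv_eq_one.1 (eq_one_of_p (F := F) C (h1 h6) (comm_mem_ID _ s c) hk)

/-- the order of a graph automorphism -/
theorem order_two (hT : T.Normal) {c : G} (hc : (orderOf c).Prime) (h : c ∈ G0 F) (h' : c ∉ F.ID hT) :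
    orderOf c = 2 := by
  have h1 : c * c ∈ F.ID hT := ((G0_two hT c h c h).resolve_left h').resolve_left h'
  by_contra h2
  obtain ⟨k, hk⟩ := hc.odd_of_ne_two h2
  have h3 : c = ((c * c) ^ k)⁻¹ := by
    rw [eq_inv_iff_mul_eq_one, ← pow_two, ← pow_mul, ← pow_succ', ← hk, pow_orderOf_eq_one]
  exact h' (h3 ▸ inv_mem (pow_mem h1 k))

theorem two_le_T (hD : Typ D) (hE : D = chevE6) (hT : AS T) {c : G} (hc : c ∈ F.ID hT.normal) {k : ℕ}
    (h : c ^ 2 ^ k = 1) : c ∈ T := by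
  obtain ⟨y, hy⟩ := hc
  refine mem_T_of_ind hT hy ?_
  have h1 := F.L.pow_dd y (ind_fix hy)
  have h2 : y ^ 2 ^ k = 1 := by
    rw [← orderOf_dvd_iff_pow_eq_one, orderOf_ind hT hy]
    exact orderOf_dvd_of_pow_eq_one h
  have h3 : Nat.Coprime F.L.dd (orderOf y) := by
    refine Nat.Coprime.coprime_dvd_right (orderOf_dvd_of_pow_eq_one h2) (Nat.Coprime.pow_right _ ?_)
    rcases F.L.hdd with h4 | h4 | h4
    · rw [h4]; decide
    · rw [h4.2]; decide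
    · exact absurd h4.1 ((typ_num hp hD).2.2 hE).2.1
  obtain ⟨m, hm⟩ := exists_pow_eq_self_of_coprime h3
  rw [← hm]
  exact pow_mem h1 m

/-- field and graph-field automorphisms -/
theorem cent_field (hC : BoxCard) (hD : Typ D) (hT : AS T) {c : G} (hc : (orderOf c).Prime) (hs : orderOf c ≠ p)
    (h : c ∉ G0 F) : q ≠ p ∧ Nat.card ↥(T ⊓ centralizer {c}) ^ 2 ≤ 4 ^ l * q ^ (2 * nP l + l) := by
  obtain ⟨φ, rfl⟩ := F.L.surj c
  set s := orderOf (F.L.π φ) with hs'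
  obtain ⟨k, hk⟩ := ker_sg (φ := φ ^ (s : ℤ)) (by rw [map_zpow, zpow_natCast, pow_orderOf_eq_one])
  have hs0 : (0 : ℤ) < s := by exact_mod_cast hc.pos
  have hk' : ¬ (s : ℤ) ∣ k := by
    rintro ⟨m, rfl⟩
    refine h (mem_G0.2 ⟨φ * sg F ^ (-m), ?_, by rw [map_mul, map_zpow, pi_sg hT, one_zpow, mul_one]⟩)
    have h1 := congrArg F.deg hk
    rw [deg_zpow, deg_zpow, mul_assoc] at h1
    rw [F.deg_mul, deg_zpow, mul_left_cancel₀ hs0.ne' h1]
    ring
  obtain ⟨b, a, hab⟩ : IsCoprime (s : ℤ) k := (Nat.prime_iff_prime_int.1 hc).irreducible.coprime_iff_not_dvd.2 hk'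
  let ψ : F.L.Γ := φ ^ a * sg F ^ b
  have h1 : (s : ℤ) * F.deg ψ = F.κ * F.m.e := by
    have h2 := congrArg F.deg hk
    rw [deg_zpow, deg_zpow, deg_sg] at h2
    show (s : ℤ) * F.deg (φ ^ a * sg F ^ b) = _
    rw [F.deg_mul, deg_zpow, deg_zpow, deg_sg]
    linear_combination a * h2 + (F.κ * F.m.e : ℤ) * hab
  obtain ⟨n, hn⟩ : s ∣ F.m.e := by
    have h2 : s ∣ F.κ * F.m.e := by
      have h3 : (s : ℤ) ∣ ((F.κ * F.m.e : ℕ) : ℤ) := ⟨_, by rw [h1, Nat.cast_mul]⟩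
      exact_mod_cast h3
    rcases F.hκ with h3 | ⟨-, h3, h4⟩
    · rwa [h3, one_mul] at h2
    · rw [h4] at h2
      refine ((Nat.Prime.dvd_mul hc).1 h2).resolve_left fun h5 => hs ?_
      rw [h3]
      exact (Nat.prime_dvd_prime_iff_eq hc Nat.prime_two).1 h5
  have hn0 : 0 < n := Nat.pos_of_ne_zero (by
    rintro rfl
    exact F.m.he.ne' hn)
  have h2 : F.deg ψ = F.κ * n := by
    refine mul_left_cancel₀ hs0.ne' ?_
    rw [h1, hn]
    push_cast
    ring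
  obtain ⟨h3, y, g, h4⟩ := F.frob ψ n h2
  obtain ⟨h5, h6⟩ := card_fix hp hC hn0 h3 h4
  have h7 : Nat.card ↥(T ⊓ centralizer {F.L.π φ}) ≤ Nat.card (DL.fix (ψ : MulAut (YY D p))) := by
    refine Nat.card_le_card_of_injective (fun x : ↥(T ⊓ centralizer {F.L.π φ}) =>
      (⟨F.L.ι ⟨x, x.2.1⟩, F.L.act ψ _ _ ?_⟩ : DL.fix (ψ : MulAut (YY D p)))) fun x x' e => ?_
    · have h8 : Commute (F.L.π φ) x := (mem_centralizer_singleton_iff.1 x.2.2).symm
      show (x : G) = F.L.π (φ ^ a * sg F ^ b) * x * (F.L.π (φ ^ a * sg F ^ b))⁻¹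
      rw [map_mul, map_zpow, map_zpow, pi_sg hT, one_zpow, mul_one, (h8.zpow_left a).eq, mul_inv_cancel_right]
    · exact Subtype.ext (congrArg (fun z : T => (z : G)) (F.L.inj (congrArg Subtype.val e)))
  have hp1 := (Fact.out : p.Prime).one_lt
  have h8 : n * 2 ≤ F.m.e := by
    rw [hn, mul_comm s]
    exact Nat.mul_le_mul_left _ hc.two_le
  have h9 : (p ^ n) ^ 2 ≤ q := by
    rw [← F.m.hq, ← pow_mul]
    exact Nat.pow_le_pow_right hp1.le h8
  refine ⟨fun e => ?_, (Nat.pow_le_pow_left (h7.trans h6) 2).trans ?_⟩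
  · have h10 : p ^ F.m.e = p ^ 1 := by rw [F.m.hq, e, pow_one]
    have h11 := Nat.pow_right_injective hp1 h10
    omega
  · have h10 : (p ^ n + 1) ^ 2 ≤ 4 * q := by
      have h11 : 1 ≤ p ^ n := Nat.one_le_pow _ _ hp1.le
      nlinarith
    rw [(typ_num hp hD).1]
    calc _ = ((p ^ n) ^ 2) ^ (2 * nP l) * ((p ^ n + 1) ^ 2) ^ l := by
          rw [mul_pow, ← pow_mul (p ^ n), ← pow_mul (p ^ n), ← pow_mul (p ^ n + 1), ← pow_mul (p ^ n + 1),
            mul_comm _ 2, mul_comm l 2]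
      _ ≤ q ^ (2 * nP l) * (4 * q) ^ l := Nat.mul_le_mul (Nat.pow_le_pow_left h9 _) (Nat.pow_le_pow_left h10 _)
      _ = _ := by rw [mul_pow, pow_add, mul_left_comm]

/-- **The counting criterion.** -/
theorem boxCrit_of (hC : BoxCard) : BoxCrit := by
  intro D l M hp hD p _ G _ _ T S C q F f r b j MI MG MO a1 a2 a3 hf hr hb hI hG hO hO' hsum
  have hN := C.as.normal
  obtain ⟨-, d0, dE⟩ := typ_num hp hD
  obtain ⟨P, p1, p2, p3, p4⟩ := exists_core (fit_nilpotent S) 2 Nat.prime_two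
  have key : ∀ c, (orderOf c).Prime → c ∉ F.ID hN → orderOf c ≠ p ∧ c ∈ G0 F →
      orderOf c = 2 ∧ D = chevE6 ∧ MG ^ (j + 1) * (3 * r) ≤ ordU l q ∧ Nat.card ↥(P ⊓ F.ID hN) ≤ 2 ^ j := by
    intro c h1 h2 h3
    have h4 := order_two hN h1 h3.2 h2
    have h5 := G0_E6 hN h3.2 h2
    obtain ⟨h6, h7⟩ := hG h5 fun e => h3.1 (h4.trans e.symm)
    refine ⟨h4, h5, h7, h6 _ (fun x hx => ⟨fit_le S (p1 hx.1), ?_⟩) (p2.to_le inf_le_left)
      fun s hs x hx => ⟨p4 s (fun v hv => fit_conj hs hv) x hx.1, conj_mem_ID hN hx.2 s⟩⟩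
    obtain ⟨k, hk⟩ := (p3 x (p1 hx.1)).2 hx.1
    exact two_le_T hD h5 C.as hx.2 hk
  have memP : ∀ c ∈ fit S, orderOf c = 2 → c ∈ P := fun c hc h =>
    (p3 c hc).1 ⟨1, by rw [pow_one, ← h, pow_orderOf_eq_one]⟩
  refine fitReg_three hN (fun c => c ∈ F.ID hN) (fun c => orderOf c ≠ p ∧ c ∈ G0 F) (nI := f) (nG := 2 ^ j)
    (nO := q * f) a1 a2 a3 hr ?_ ?_ ?_ ?_ ?_ ?_ (by push_cast; exact hsum)
  · rintro c hc h1 ⟨y, hy⟩
    have h2 := orderOf_ind C.as hy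
    refine le_cls_of d0 hI F.ord ((cent_le_ind hy).trans (hb c hc y hy (h2 ▸ h1) fun e => ?_))
    have h3 := eq_one_of_p (F := F) C hc ⟨y, hy⟩ (k := 1) (by rw [pow_one, ← e, h2, pow_orderOf_eq_one])
    rw [h3, orderOf_one] at h1
    exact Nat.not_prime_one h1
  · intro c hc h1 h2 h3
    obtain ⟨h4, h5, h6, h7⟩ := key c h1 h2 h3
    have h8 : Nat.card ↥(P ⊓ G0 F) ≤ 2 ^ (j + 1) := by
      rw [card_le_inf_mul (F.ID hN) (P ⊓ G0 F), pow_succ]
      refine Nat.mul_le_mul ((Subgroup.card_le_of_le (inf_le_inf_right _ inf_le_left)).trans h7) ?_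
      exact relIndex_le_two fun a ha b hb => G0_two hN a ha.2 b hb.2
    have h9 := card_le_cls_pow C.as C.solv C.max (fit_le S hc) (fun e => by
      rw [e, orderOf_one] at h1
      exact Nat.not_prime_one h1) (N := P ⊓ G0 F) (fun s hs => ⟨p4 s (fun v hv => fit_conj hs hv) c (memP c hc h4),
        G0_normal.conj_mem c h3.2 s⟩) h8
    have h10 := F.ord
    rw [(dE h5).1] at h10
    have hr0 : 0 < r := lt_of_lt_of_le Nat.card_pos hr
    refine (Nat.pow_le_pow_iff_left (n := j + 1) (by omega)).1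
      (Nat.le_of_mul_le_mul_right (h6.trans (h10.trans ?_)) (by omega : 0 < 3 * r))
    calc 3 * Nat.card T ≤ 3 * (r * cls T c ^ (j + 1)) :=
          Nat.mul_le_mul_left _ (h9.trans (Nat.mul_le_mul_right _ hr))
      _ = _ := by ring
  · intro c hc h1 h2 h3
    by_cases h4 : orderOf c = p
    · refine le_cls_of d0 hO F.ord ((Subgroup.card_le_of_le (cent_le_of_central C.as C.solv C.max (fit_le S hc)
        (fun e => h2 (e ▸ one_mem _)) (central_of_p C F hc (by rw [← h4, pow_orderOf_eq_one])))).trans hr)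
    · obtain ⟨h5, h6⟩ := cent_field (F := F) hC hD C.as h1 h4 fun h => h3 ⟨h4, h⟩
      refine le_cls_of d0 ?_ F.ord le_rfl
      refine (Nat.pow_le_pow_iff_left two_ne_zero).1 (le_trans ?_ (hO' h5))
      rw [← mul_assoc, mul_pow]
      exact Nat.mul_le_mul_left _ h6
  · refine lt_of_lt_of_le ?_ hf
    refine lt_of_le_of_lt (le_of_eq (Nat.subtype_card (primeElts (fit S ⊓ F.ID hN)) fun c => ?_))
      (card_primeElts_lt _)
    rw [mem_primeElts, Subgroup.mem_inf]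
    tauto
  · rcases isEmpty_or_nonempty {c // c ∈ fit S ∧ (orderOf c).Prime ∧ c ∉ F.ID hN ∧ orderOf c ≠ p ∧ c ∈ G0 F} with h | ⟨⟨c₀, h₀⟩⟩
    · rw [Nat.card_of_isEmpty]
      exact Nat.zero_le _
    · obtain ⟨h4, -, -, h7⟩ := key c₀ h₀.2.1 h₀.2.2.1 h₀.2.2.2
      refine le_trans (Nat.card_le_card_of_injective (fun c => (⟨c.1 * c₀, mul_mem (memP _ c.2.1
        (key _ c.2.2.1 c.2.2.2.1 c.2.2.2.2).1) (memP _ h₀.1 h4), ?_⟩ : ↥(P ⊓ F.ID hN))) fun c c' e => ?_) h7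
      · exact ((G0_two hN _ c.2.2.2.2.2 _ h₀.2.2.2.2).resolve_left c.2.2.2.1).resolve_left h₀.2.2.1
      · exact Subtype.ext (mul_right_cancel (congrArg Subtype.val e))
  · exact (card_le_q hD C.as _).trans (Nat.mul_le_mul_left _ hf)

end Cfsg.Agent.SB.Exc.Crit
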