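import Cfsg.Agent.SB.Master
import Cfsg.Agent.SB.R1.Crit

/-!
# S5765, exceptional groups: group theory for the counting criterion (helper90)
-/

set_option autoImplicit false

namespace Cfsg.Agent.SB.Exc.Crit

open Subgroup Cfsg Cfsg.Agent.H786.FC

variable {A : Type*} [Group A] [Finite A] {T S : Subgroup A}

omit [Finite A] in
theorem fit_conj {s v : A} (hs : s ∈ S) (hv : v ∈ fit S) : s * v * s⁻¹ ∈ fit S := by
  obtain ⟨w, hw, rfl⟩ := hv
  have hN : (fittingSubgroup S).Normal := inferInstance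
  exact ⟨_, hN.conj_mem w hw ⟨s, hs⟩, rfl⟩

/-- a lower bound for a class from an upper bound for the centralizer -/
theorem le_cls_of {c : A} {M d b U : ℕ} (hd : 0 < d) (h1 : M * (d * b) ≤ U) (h2 : U ≤ d * Nat.card T)
    (h3 : Nat.card ↥(T ⊓ centralizer {c}) ≤ b) : M ≤ cls T c := by
  have h4 := cls_mul_card T c
  have h5 : 0 < b := lt_of_lt_of_le Nat.card_pos h3
  refine Nat.le_of_mul_le_mul_right (c := d * b) (h1.trans (h2.trans ?_)) (Nat.mul_pos hd h5)
  rw [← h4]
  calc d * (Nat.card ↥(T ⊓ centralizer {c}) * cls T c) ≤ d * (b * cls T c) :=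
        Nat.mul_le_mul_left _ (Nat.mul_le_mul_right _ h3)
    _ = _ := by ring

theorem card_cent_conj (hT : T.Normal) (c s : A) :
    Nat.card ↥(T ⊓ centralizer {c}) ≤ Nat.card ↥(T ⊓ centralizer {s * c * s⁻¹}) := by
  refine Nat.card_le_card_of_injective (fun x : ↥(T ⊓ centralizer {c}) =>
    (⟨s * x * s⁻¹, hT.conj_mem _ x.2.1 s, ?_⟩ : ↥(T ⊓ centralizer {s * c * s⁻¹}))) ?_
  · have h1 := mem_centralizer_singleton_iff.1 x.2.2
    refine mem_centralizer_singleton_iff.2 ?_
    calc s * x * s⁻¹ * (s * c * s⁻¹) = s * (x * c) * s⁻¹ := by group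
      _ = s * (c * x) * s⁻¹ := by rw [h1]
      _ = _ := by group
  · intro x y h
    have h1 : s * x * s⁻¹ = s * y * s⁻¹ := congrArg Subtype.val h
    exact Subtype.ext (mul_left_cancel (mul_right_cancel h1))

theorem cls_conj_le (hT : T.Normal) (c s : A) : cls T (s * c * s⁻¹) ≤ cls T c := by
  have h1 := cls_mul_card T c
  have h2 := cls_mul_card T (s * c * s⁻¹)
  refine Nat.le_of_mul_le_mul_left ?_
    (Nat.card_pos (α := ↥(T ⊓ centralizer {s * c * s⁻¹})))
  rw [h2, ← h1]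
  exact Nat.mul_le_mul_right _ (card_cent_conj hT c s)

theorem card_le_mul_cls {K : Subgroup A} (hK : K ≤ T) (d : A) :
    Nat.card K ≤ Nat.card ↥(K ⊓ centralizer {d}) * cls T d := by
  have h1 := cls_mul_card K d
  rw [← h1]
  refine Nat.mul_le_mul_left _ ?_
  unfold cls
  rw [inf_comm K, inf_relIndex_right, inf_comm T, inf_relIndex_right]
  exact relIndex_le_of_le_right hK (Subgroup.FiniteIndex.index_ne_zero (H := (centralizer {d}).subgroupOf T))

/-- few conjugates generate the normal closure -/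
theorem chain (hT : T.Normal) {c : A} {N : Subgroup A} (hN : ∀ s ∈ S, s * c * s⁻¹ ∈ N) (n : ℕ) :
    ∃ H ≤ N, Nat.card T ≤ Nat.card ↥(T ⊓ centralizer (H : Set A)) * cls T c ^ n ∧
      (2 ^ n ≤ Nat.card H ∨ ∀ s ∈ S, s * c * s⁻¹ ∈ H) := by
  induction n with
  | zero =>
    refine ⟨⊥, bot_le, ?_, Or.inl (by simp)⟩
    have h1 : T ⊓ centralizer ((⊥ : Subgroup A) : Set A) = T := by
      refine inf_eq_left.2 fun x _ y hy => ?_
      rw [SetLike.mem_coe, mem_bot] at hy
      rw [hy, one_mul, mul_one]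
    rw [h1, pow_zero, mul_one]
  | succ n ih =>
    obtain ⟨H, h1, h2, h3⟩ := ih
    by_cases h4 : ∀ s ∈ S, s * c * s⁻¹ ∈ H
    · refine ⟨H, h1, h2.trans (Nat.mul_le_mul_left _ ?_), Or.inr h4⟩
      exact Nat.pow_le_pow_right (cls_pos T c) (Nat.le_succ n)
    · have h5 := h3.resolve_right h4
      push Not at h4
      obtain ⟨s, hs, h4⟩ := h4
      refine ⟨H ⊔ zpowers (s * c * s⁻¹), sup_le h1 (zpowers_le.2 (hN s hs)), h2.trans ?_, Or.inl ?_⟩
      · rw [pow_succ', ← mul_assoc]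
        refine Nat.mul_le_mul_right _ ((card_le_mul_cls (T := T) inf_le_left (s * c * s⁻¹)).trans
          (Nat.mul_le_mul (card_le_of_le fun x hx => ⟨hx.1.1, ?_⟩) (cls_conj_le hT c s)))
        have h6 : H ⊔ zpowers (s * c * s⁻¹) ≤ centralizer {x} := by
          refine sup_le (fun y hy => mem_centralizer_singleton_iff.2 (hx.1.2 y hy)) (zpowers_le.2 ?_)
          exact mem_centralizer_singleton_iff.2 (mem_centralizer_singleton_iff.1 hx.2).symm
        exact fun y hy => mem_centralizer_singleton_iff.1 (h6 hy)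
      · obtain ⟨k, hk⟩ := card_dvd_of_le (le_sup_left : H ≤ H ⊔ zpowers (s * c * s⁻¹))
        have h7 : k ≠ 0 := by
          rintro rfl
          exact Nat.card_pos.ne' hk
        have h8 : k ≠ 1 := by
          rintro rfl
          rw [mul_one] at hk
          have h9 := eq_of_le_of_card_ge (le_sup_left : H ≤ H ⊔ zpowers (s * c * s⁻¹)) hk.le
          exact h4 (h9 ▸ mem_sup_right (mem_zpowers _))
        rw [hk, pow_succ]
        exact Nat.mul_le_mul h5 (by omega)

/-- the bound for an element whose normal closure in `S` is small -/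
theorem card_le_cls_pow (hT : AS T) (hS : Group.IsSolvable S) (hm : MaxInv T S) {c : A} (hc : c ∈ S) (h1 : c ≠ 1)
    {N : Subgroup A} (hN : ∀ s ∈ S, s * c * s⁻¹ ∈ N) {n : ℕ} (hn : Nat.card N ≤ 2 ^ n) :
    Nat.card T ≤ Nat.card ↥(S ⊓ T) * cls T c ^ n := by
  obtain ⟨H, h2, h3, h4⟩ := chain hT.normal hN n
  have h5 : ∀ s ∈ S, s * c * s⁻¹ ∈ H := by
    rcases h4 with h4 | h4
    · rw [eq_of_le_of_card_ge h2 (hn.trans h4)]
      exact hN
    · exact h4
  refine h3.trans (Nat.mul_le_mul_right _ (card_le_of_le fun x hx => ⟨?_, hx.1⟩))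
  let K : Subgroup A := closure {y | ∃ s ∈ S, s * c * s⁻¹ = y}
  have hKS : K ≤ S := (closure_le _).2 (by
    rintro _ ⟨s, hs, rfl⟩
    exact mul_mem (mul_mem hs hc) (inv_mem hs))
  have hKH : K ≤ H := (closure_le _).2 (by
    rintro _ ⟨s, hs, rfl⟩
    exact h5 s hs)
  refine hm.mem_of_centralizes hT (X := K) (fun h => h1 ?_) (fun h => hT.not_le hS (h.trans hKS)) (fun s hs y hy => ?_)
    hx.1 fun y hy => (hx.2 y (hKH hy)).symm
  · have h6 : c ∈ K := subset_closure ⟨1, one_mem _, by group⟩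
    rwa [h, mem_bot] at h6
  · have h6 : K ≤ K.comap (MulAut.conj s).toMonoidHom := (closure_le _).2 (by
      rintro _ ⟨s', hs', rfl⟩
      exact subset_closure ⟨s * s', mul_mem hs hs', by simp [mul_assoc]⟩)
    exact h6 hy

/-- a central element of `S` -/
theorem cent_le_of_central (hT : AS T) (hS : Group.IsSolvable S) (hm : MaxInv T S) {c : A} (hc : c ∈ S) (h1 : c ≠ 1)
    (h : ∀ s ∈ S, s * c * s⁻¹ = c) : T ⊓ centralizer {c} ≤ S ⊓ T := by
  refine fun x hx => ⟨?_, hx.1⟩
  refine hm.mem_of_centralizes hT (X := zpowers c) (fun h => h1 ?_)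
    (fun h => hT.not_le hS (h.trans (zpowers_le.2 hc))) ?_ hx.1 ?_
  · exact zpowers_eq_bot.1 h
  · rintro s hs _ ⟨k, rfl⟩
    rw [← conj_zpow, h s hs]
    exact zpow_mem (mem_zpowers c) k
  · rintro _ ⟨k, rfl⟩
    exact (Commute.zpow_right (mem_centralizer_singleton_iff.1 hx.2) k).eq

omit [Finite A] in
theorem relIndex_le_two {H K : Subgroup A} (h : ∀ a ∈ K, ∀ b ∈ K, a ∈ H ∨ b ∈ H ∨ a * b ∈ H) : H.relIndex K ≤ 2 := by
  have h1 : Nat.card Prop = 2 := by simp
  rw [← h1]
  refine Nat.card_le_card_of_injective (α := K ⧸ H.subgroupOf K)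
    (Quotient.lift (fun a : K => (a : A) ∈ H) fun a b hab => ?_) ?_
  · have h2 : (a : A)⁻¹ * b ∈ H := mem_subgroupOf.1 (QuotientGroup.leftRel_apply.1 hab)
    refine propext ⟨fun ha => ?_, fun hb => ?_⟩
    · simpa using mul_mem ha h2
    · simpa using mul_mem hb (inv_mem h2)
  · intro a b
    refine Quotient.inductionOn₂ a b fun a b hab => ?_
    have h2 : (a : A) ∈ H ↔ (b : A) ∈ H := Eq.to_iff hab
    refine QuotientGroup.eq.2 (mem_subgroupOf.2 ?_)
    by_cases ha : (a : A) ∈ H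
    · exact mul_mem (inv_mem ha) (h2.1 ha)
    · rcases h _ (inv_mem a.2) _ b.2 with h3 | h3 | h3
      · exact absurd (inv_mem_iff.1 h3) ha
      · exact absurd (h2.2 h3) ha
      · exact h3

omit [Finite A] in
theorem card_le_inf_mul (H K : Subgroup A) : Nat.card K = Nat.card ↥(K ⊓ H) * H.relIndex K := by
  rw [← card_eq_mul_relIndex (inf_le_left : K ⊓ H ≤ K), inf_comm K, inf_relIndex_right]

/-- **The criterion with three kinds of elements.** -/
theorem fitReg_three (hT : T.Normal) (I J : A → Prop) {r MI MG MO nI nG nO : ℕ} (h1 : 0 < MI) (h2 : 0 < MG) (h3 : 0 < MO)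
    (hr : Nat.card ↥(S ⊓ T) ≤ r)
    (hI : ∀ c ∈ fit S, (orderOf c).Prime → I c → MI ≤ cls T c)
    (hG : ∀ c ∈ fit S, (orderOf c).Prime → ¬ I c → J c → MG ≤ cls T c)
    (hO : ∀ c ∈ fit S, (orderOf c).Prime → ¬ I c → ¬ J c → MO ≤ cls T c)
    (cI : Nat.card {c // c ∈ fit S ∧ (orderOf c).Prime ∧ I c} < nI)
    (cG : Nat.card {c // c ∈ fit S ∧ (orderOf c).Prime ∧ ¬ I c ∧ J c} ≤ nG) (cO : Nat.card (fit S) ≤ nO)
    (h : (r : ℚ) * (nI / MI + nG / MG + nO / MO) ≤ 1) : FitReg T S := by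
  classical
  have hr0 : (0 : ℚ) < r := by exact_mod_cast lt_of_lt_of_le Nat.card_pos hr
  have key : ∀ (M : ℕ), 0 < M → ∀ c ∈ fit S, M ≤ cls T c → (meet T S c : ℚ) ≤ (r : ℚ) / M * cls T c := by
    intro M hM c hc h4
    refine (R1.w_bound hT hM (fit_le S hc) h4).trans ?_
    have h5 : (Nat.card ↥(S ⊓ T) : ℚ) ≤ r := by exact_mod_cast hr
    gcongr
  refine fitReg_of_sum (fun c => if I c then r / MI else if J c then r / MG else r / MO) (fun c hc hp => ?_) ?_
  · split_ifs with a b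
    · exact key _ h1 c hc (hI c hc hp a)
    · exact key _ h2 c hc (hG c hc hp a b)
    · exact key _ h3 c hc (hO c hc hp a b)
  · rw [Finset.sum_ite, Finset.sum_ite, Finset.sum_const, Finset.sum_const, Finset.sum_const, nsmul_eq_mul, nsmul_eq_mul,
      nsmul_eq_mul]
    have e1 : (((primeElts (fit S)).filter I).card : ℚ) < nI := by
      refine Nat.cast_lt.2 (lt_of_le_of_lt (le_of_eq ?_) cI)
      refine (Nat.subtype_card _ fun c => ?_).symm
      rw [Finset.mem_filter, mem_primeElts, and_assoc]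
    have e2 : ((((primeElts (fit S)).filter fun c => ¬ I c).filter J).card : ℚ) ≤ nG := by
      refine Nat.cast_le.2 (le_trans (le_of_eq ?_) cG)
      refine (Nat.subtype_card _ fun c => ?_).symm
      rw [Finset.mem_filter, Finset.mem_filter, mem_primeElts, and_assoc, and_assoc]
    have e3 : ((((primeElts (fit S)).filter fun c => ¬ I c).filter fun c => ¬ J c).card : ℚ) ≤ nO := by
      refine Nat.cast_le.2 (le_trans ?_ cO)
      exact ((Finset.card_filter_le _ _).trans (Finset.card_filter_le _ _)).trans (card_primeElts_lt _).le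
    have p1 : (0 : ℚ) < r / MI := div_pos hr0 (by exact_mod_cast h1)
    have p2 : (0 : ℚ) < r / MG := div_pos hr0 (by exact_mod_cast h2)
    have p3 : (0 : ℚ) < r / MO := div_pos hr0 (by exact_mod_cast h3)
    have e4 : (r : ℚ) * (nI / MI + nG / MG + nO / MO) = nI * (r / MI) + (nG * (r / MG) + nO * (r / MO)) := by ring
    rw [e4] at h
    refine lt_of_lt_of_le ?_ h
    exact add_lt_add_of_lt_of_le (mul_lt_mul_of_pos_right e1 p1)
      (add_le_add (mul_le_mul_of_nonneg_right e2 p2.le) (mul_le_mul_of_nonneg_right e3 p3.le))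

end Cfsg.Agent.SB.Exc.Crit
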